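import Mathlib
import Groth.Agent.FlatLib.OpenFP

/-!
# A flat finite type algebra which is locally finitely presented, over a ring embedding in finitely
many localizations at primes, is finitely presented
-/

set_option autoImplicit false
set_option linter.all false
universe u
open scoped TensorProduct

namespace FlatFPLib

theorem eq_zero_of_smul_eq_zero {R N ι : Type u} [CommRing R] [AddCommGroup N] [Module R N]
    [Module.Flat R N] [Fintype ι] (s : ι → R) (hs : ∀ a : R, (∀ j, s j * a = 0) → a = 0) (y : N)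
    (hy : ∀ j, s j • y = 0) : y = 0 := by
  classical
  let f : R →ₗ[R] (ι → R) := LinearMap.pi fun j => LinearMap.mulLeft R (s j)
  have hf : Function.Injective f := by
    rw [← LinearMap.ker_eq_bot, LinearMap.ker_eq_bot']
    intro a ha
    exact hs a fun j => congrFun ha j
  have h1 := Module.Flat.lTensor_preserves_injective_linearMap (M := N) f hf
  have h2 : LinearMap.lTensor N f (y ⊗ₜ 1) = 0 := by
    rw [LinearMap.lTensor_tmul]
    apply (TensorProduct.piScalarRight R R N ι).injective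
    rw [map_zero, TensorProduct.piScalarRight_apply]
    funext j
    rw [TensorProduct.piScalarRightHom_tmul]
    show (f 1 j) • y = 0
    simp [f, hy j]
  have h3 : y ⊗ₜ[R] (1 : R) = 0 := h1 (h2.trans (map_zero _).symm)
  have := congrArg (TensorProduct.rid R N) h3
  simpa using this

variable {R : Type u} [CommRing R] {n : ℕ} {S : Type u} [CommRing S] [Algebra R S]
  (π : MvPolynomial (Fin n) R →ₐ[R] S)

theorem exists_local_generators (hπ : Function.Surjective π) (p : Ideal R) [p.IsPrime]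
    (hp : Algebra.FinitePresentation (Localization.AtPrime p)
      (Localization (Algebra.algebraMapSubmonoid S p.primeCompl))) :
    ∃ F : Finset (MvPolynomial (Fin n) R), (∀ f ∈ F, π f = 0) ∧ ∀ x, π x = 0 →
      ∃ s ∉ p, algebraMap R (MvPolynomial (Fin n) R) s * x ∈ Ideal.span (F : Set (MvPolynomial (Fin n) R)) := by
  let P := MvPolynomial (Fin n) R
  let M := p.primeCompl
  let L := Localization (Algebra.algebraMapSubmonoid P M)
  let Sp := Localization (Algebra.algebraMapSubmonoid S M)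
  let Rp := Localization.AtPrime p
  haveI : Algebra.IsPushout R Rp P L :=
    (Algebra.isPushout_of_isLocalization M Rp P L).symm
  haveI : Algebra.FinitePresentation Rp (Rp ⊗[R] P) := inferInstance
  haveI : Algebra.FinitePresentation Rp L :=
    Algebra.FinitePresentation.equiv (Algebra.IsPushout.equiv R Rp P L)
  have hT : Submonoid.map π.toRingHom (Algebra.algebraMapSubmonoid P M) = Algebra.algebraMapSubmonoid S M := by
    ext y
    simp [Algebra.algebraMapSubmonoid, Submonoid.mem_map]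
  let g : L →+* Sp := IsLocalization.map Sp π.toRingHom (hT ▸ Submonoid.le_comap_map _)
  let g' : L →ₐ[Rp] Sp :=
    { g with
      commutes' := fun x => by
        have : g.comp (algebraMap Rp L) = algebraMap Rp Sp := by
          apply IsLocalization.ringHom_ext M
          ext r
          simp only [RingHom.comp_apply, ← IsScalarTower.algebraMap_apply]
          rw [IsScalarTower.algebraMap_apply R P L]
          show g _ = _
          rw [IsLocalization.map_eq, IsScalarTower.algebraMap_apply R S Sp]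
          exact congrArg _ (π.commutes r)
        exact DFunLike.congr_fun this x }
  have hg : Function.Surjective g' := by
    intro y
    obtain ⟨b, ⟨_, r, hr, rfl⟩, rfl⟩ := IsLocalization.exists_mk'_eq (Algebra.algebraMapSubmonoid S M) y
    obtain ⟨a, rfl⟩ := hπ b
    refine ⟨IsLocalization.mk' L a (⟨algebraMap R P r, r, hr, rfl⟩ : Algebra.algebraMapSubmonoid P M), ?_⟩
    show g _ = _
    rw [IsLocalization.map_mk']
    congr 1
    exact Subtype.ext (π.commutes r)
  have hfg := Algebra.FinitePresentation.ker_fG_of_surjective g' hg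
  have hker : RingHom.ker g'.toRingHom = (RingHom.ker π.toRingHom).map (algebraMap P L) :=
    IsLocalization.ker_map (Q := Sp) (g := π.toRingHom) hT
  rw [hker] at hfg
  obtain ⟨t, ht, hspan⟩ := (Submodule.fg_span_iff_fg_span_finset_subset _).1 hfg
  classical
  choose F hF hFe using fun z (hz : z ∈ t) => ht hz
  refine ⟨t.attach.image fun z => F z.1 z.2, ?_, fun x hx => ?_⟩
  · intro f hf
    obtain ⟨z, -, rfl⟩ := Finset.mem_image.1 hf
    exact hF z.1 z.2
  have hxm : algebraMap P L x ∈ Ideal.span (Set.range fun z : t => algebraMap P L (F z.1 z.2)) := by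
    have : (Set.range fun z : t => algebraMap P L (F z.1 z.2)) = (t : Set L) := by
      ext w
      constructor
      · rintro ⟨z, rfl⟩; show algebraMap P L (F z.1 z.2) ∈ t; rw [hFe]; exact z.2
      · intro hw; exact ⟨⟨w, hw⟩, hFe w hw⟩
    rw [this]
    have h := Ideal.mem_map_of_mem (algebraMap P L) (show x ∈ RingHom.ker π.toRingHom from hx)
    exact hspan.le h
  have hxm' : algebraMap P L x ∈ (Ideal.span ((t.attach.image fun z => F z.1 z.2 : Finset P) : Set P)).map (algebraMap P L) := by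
    rw [Ideal.map_span]
    refine Ideal.span_mono ?_ hxm
    rintro _ ⟨z, rfl⟩
    exact ⟨_, Finset.mem_coe.2 (Finset.mem_image.2 ⟨z, Finset.mem_attach _ _, rfl⟩), rfl⟩
  obtain ⟨_, ⟨r, hr, rfl⟩, h⟩ := (IsLocalization.algebraMap_mem_map_algebraMap_iff (Algebra.algebraMapSubmonoid P M) L _ x).1 hxm'
  exact ⟨r, hr, h⟩

theorem flat_at (hπ : Function.Surjective π) [Module.Flat R S] (q : Ideal (MvPolynomial (Fin n) R)) [q.IsPrime]
    (J : Ideal (MvPolynomial (Fin n) R)) (hJ : ∀ x ∈ J, π x = 0)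
    (hq : ∀ x, π x = 0 → ∃ s : R, algebraMap R (MvPolynomial (Fin n) R) s ∉ q ∧
      algebraMap R (MvPolynomial (Fin n) R) s * x ∈ J)
    (q' : PrimeSpectrum (MvPolynomial (Fin n) R ⧸ J))
    (hq' : q'.asIdeal.comap (Ideal.Quotient.mk J) = q) :
    q' ∈ FlatLib.flatLocus R (MvPolynomial (Fin n) R ⧸ J) (MvPolynomial (Fin n) R ⧸ J) := by
  let P := MvPolynomial (Fin n) R
  let φ : (P ⧸ J) →ₐ[R] S := Ideal.Quotient.liftₐ J π hJ
  let T := q'.asIdeal.primeCompl
  have hsurj : Function.Surjective φ := fun y => by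
    obtain ⟨x, rfl⟩ := hπ y; exact ⟨Ideal.Quotient.mk J x, rfl⟩
  let K : Ideal (P ⧸ J) := RingHom.ker φ.toRingHom
  show Module.Flat R (LocalizedModule T (P ⧸ J))
  refine (FlatLib.flat_localized_iff T (LocalizedModule.mkLinearMap T (P ⧸ J))).mpr fun N₀ _ _ N x hx => ?_
  have h0 : φ.toLinearMap.rTensor N x = 0 := by
    apply Module.Flat.lTensor_preserves_injective_linearMap (M := S) N.subtype Subtype.val_injective
    rw [map_zero, ← LinearMap.comp_apply, LinearMap.lTensor_comp_rTensor,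
      ← LinearMap.rTensor_comp_lTensor, LinearMap.comp_apply, hx, map_zero]
  have hex : Function.Exact (K.subtype.restrictScalars R) φ.toLinearMap := by
    intro y
    exact ⟨fun h => ⟨⟨y, h⟩, rfl⟩, by rintro ⟨⟨z, hz⟩, rfl⟩; exact hz⟩
  obtain ⟨w, rfl⟩ := (rTensor_exact N hex hsurj x).1 h0
  clear hx h0
  induction w using TensorProduct.induction_on with
  | zero => exact ⟨1, T.one_mem, by rw [map_zero, smul_zero]⟩
  | add a b ha hb =>
    obtain ⟨t₁, ht₁, h₁⟩ := ha
    obtain ⟨t₂, ht₂, h₂⟩ := hb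
    refine ⟨t₁ * t₂, T.mul_mem ht₁ ht₂, ?_⟩
    rw [map_add, smul_add, mul_smul t₁ t₂ (LinearMap.rTensor N (K.subtype.restrictScalars R) b), h₂,
      smul_zero, add_zero, mul_comm t₁ t₂, mul_smul, h₁, smul_zero]
  | tmul k m =>
    obtain ⟨x, hx⟩ := Ideal.Quotient.mk_surjective (k : P ⧸ J)
    have hπx : π x = 0 := by
      have := k.2
      rw [← hx] at this
      exact this
    obtain ⟨s, hs, hsx⟩ := hq x hπx
    refine ⟨Ideal.Quotient.mk J (algebraMap R P s), fun h => hs (hq' ▸ h), ?_⟩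
    show Ideal.Quotient.mk J (algebraMap R P s) • ((k : P ⧸ J) ⊗ₜ[R] m) = 0
    rw [TensorProduct.smul_tmul', smul_eq_mul, ← hx, ← map_mul, Ideal.Quotient.eq_zero_iff_mem.2 hsx,
      TensorProduct.zero_tmul]

variable [Module.Flat R S] (s : Finset (PrimeSpectrum R))
  (hs : Function.Injective fun r : R => fun p : s => algebraMap R (Localization.AtPrime p.1.asIdeal) r)
  (hloc : ∀ (p : Ideal R) [p.IsPrime],
      Algebra.FinitePresentation (Localization.AtPrime p) (Localization (Algebra.algebraMapSubmonoid S p.primeCompl)))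

include hs hloc in
theorem exists_fg_near (hπ : Function.Surjective π) (q : Ideal (MvPolynomial (Fin n) R)) [q.IsPrime]
    (hIq : ∀ x, π x = 0 → x ∈ q) :
    ∃ g ∉ q, ∃ F : Finset (MvPolynomial (Fin n) R), (∀ f ∈ F, π f = 0) ∧
      ∀ x, π x = 0 → ∃ k : ℕ, g ^ k * x ∈ Ideal.span (F : Set (MvPolynomial (Fin n) R)) := by
  classical
  let P := MvPolynomial (Fin n) R
  choose G hG hGs using fun p : s => exists_local_generators π hπ p.1.asIdeal (hloc p.1.asIdeal)
  obtain ⟨Fq, hFq, hFqs⟩ := exists_local_generators π hπ (q.comap (algebraMap R P)) (hloc _)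
  let F : Finset P := Fq ∪ s.attach.biUnion G
  have hF : ∀ f ∈ F, π f = 0 := by
    intro f hf
    rcases Finset.mem_union.1 hf with h | h
    · exact hFq f h
    · obtain ⟨p, -, hp⟩ := Finset.mem_biUnion.1 h; exact hG p f hp
  let J : Ideal P := Ideal.span (F : Set P)
  have hJπ : ∀ x ∈ J, π x = 0 := fun x hx =>
    RingHom.mem_ker.1 ((Ideal.span_le (I := RingHom.ker π)).2 hF hx)
  have hJq : J ≤ q := fun x hx => hIq x (hJπ x hx)
  haveI : Algebra.FinitePresentation R (P ⧸ J) := Algebra.FinitePresentation.quotient ⟨F, rfl⟩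
  let q' : PrimeSpectrum (P ⧸ J) := ⟨q.map (Ideal.Quotient.mk J),
    Ideal.map_isPrime_of_surjective Ideal.Quotient.mk_surjective (by rw [Ideal.mk_ker]; exact hJq)⟩
  have hq' : q'.asIdeal.comap (Ideal.Quotient.mk J) = q := by
    show (q.map (Ideal.Quotient.mk J)).comap (Ideal.Quotient.mk J) = q
    rw [Ideal.comap_map_of_surjective _ Ideal.Quotient.mk_surjective, ← RingHom.ker_eq_comap_bot,
      Ideal.mk_ker, sup_eq_left.2 hJq]
  have hmem := flat_at π hπ q J hJπ (fun x hx => by
    obtain ⟨r, hr, h⟩ := hFqs x hx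
    exact ⟨r, hr, Ideal.span_mono (by exact_mod_cast Finset.subset_union_left) h⟩) q' hq'
  obtain ⟨_, ⟨g', rfl⟩, hgq, hgsub⟩ := PrimeSpectrum.isTopologicalBasis_basic_opens.exists_subset_of_mem_open hmem
    (FlatLib.isOpen_flatLocus_fp (R := R) (S := P ⧸ J) (M := P ⧸ J))
  obtain ⟨g, rfl⟩ := Ideal.Quotient.mk_surjective g'
  refine ⟨g, fun h => hgq (Ideal.mem_map_of_mem _ h), F, hF, fun x hx => ?_⟩
  have hs' : ∀ p : s, ∃ r : R, r ∉ p.1.asIdeal ∧ algebraMap R P r * x ∈ J := fun p => by
    obtain ⟨r, hr, h⟩ := hGs p x hx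
    refine ⟨r, hr, Ideal.span_mono ?_ h⟩
    intro f hf
    exact Finset.mem_coe.2 (Finset.mem_union.2 (Or.inr (Finset.mem_biUnion.2 ⟨p, Finset.mem_attach _ _, hf⟩)))
  choose r hr hrx using hs'
  have key : Ideal.Quotient.mk J g ∈ (Ideal.torsionOf (P ⧸ J) (P ⧸ J) (Ideal.Quotient.mk J x)).radical := by
    rw [Ideal.radical_eq_sInf, Submodule.mem_sInf]
    intro Q₀ hQle
    obtain ⟨Q, rfl⟩ : ∃ Q : Ideal (P ⧸ J), Q = Q₀ := ⟨Q₀, rfl⟩
    obtain ⟨hle, hQ⟩ : _ ≤ Q ∧ Q.IsPrime := hQle
    by_contra hgQ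
    have hfl : Module.Flat R (LocalizedModule Q.primeCompl (P ⧸ J)) := hgsub (a := ⟨Q, hQ⟩) hgQ
    haveI := hfl
    have h1 : LocalizedModule.mkLinearMap Q.primeCompl (P ⧸ J) (Ideal.Quotient.mk J x) = 0 := by
      refine eq_zero_of_smul_eq_zero r (fun a ha => hs (funext fun p => ?_)) _ fun p => ?_
      · show algebraMap R _ a = algebraMap R _ 0
        rw [map_zero, IsLocalization.map_eq_zero_iff p.1.asIdeal.primeCompl]
        exact ⟨⟨r p, hr p⟩, ha p⟩
      · rw [← LinearMap.map_smul_of_tower,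
          show r p • Ideal.Quotient.mk J x = Ideal.Quotient.mk J (algebraMap R P (r p) * x) by
            rw [← Algebra.smul_def]; rfl,
          Ideal.Quotient.eq_zero_iff_mem.2 (hrx p), map_zero]
    obtain ⟨c, hc⟩ := (IsLocalizedModule.eq_zero_iff Q.primeCompl (LocalizedModule.mkLinearMap Q.primeCompl (P ⧸ J))).1 h1
    exact c.2 (hle hc)
  obtain ⟨k, hk⟩ := key
  refine ⟨k, Ideal.Quotient.eq_zero_iff_mem.1 ?_⟩
  rw [map_mul, map_pow]
  exact hk

include hs hloc in
theorem ker_fg (hπ : Function.Surjective π) : (RingHom.ker π.toRingHom).FG := by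
  classical
  let P := MvPolynomial (Fin n) R
  let I : Ideal P := RingHom.ker π.toRingHom
  let C : Set P := {g | ∃ F : Finset P, (∀ f ∈ F, π f = 0) ∧
    ∀ x, π x = 0 → ∃ k : ℕ, g ^ k * x ∈ Ideal.span (F : Set P)}
  have htop : I ⊔ Ideal.span C = ⊤ := by
    by_contra hne
    obtain ⟨q, hq, hle⟩ := Ideal.exists_le_maximal _ hne
    haveI := hq.isPrime
    obtain ⟨g, hg, F, hF, hgF⟩ := exists_fg_near π s hs hloc hπ q
      (fun x hx => hle (Ideal.mem_sup_left hx))
    exact hg (hle (Ideal.mem_sup_right (Ideal.subset_span ⟨F, hF, hgF⟩)))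
  obtain ⟨a, ha, b, hb, hab⟩ := Submodule.mem_sup.1 ((Ideal.eq_top_iff_one _).1 htop)
  obtain ⟨G, hGC, hbG⟩ := Submodule.mem_span_finite_of_mem_span hb
  choose F hF hFg using fun g : G => hGC g.2
  let U : Finset P := insert a (G.attach.biUnion F)
  refine ⟨U, le_antisymm ?_ ?_⟩
  · refine Submodule.span_le.2 fun f hf => ?_
    rcases Finset.mem_insert.1 hf with rfl | h
    · exact ha
    · obtain ⟨g, -, hg⟩ := Finset.mem_biUnion.1 h; exact hF g f hg
  intro x hx
  let T : Ideal P := Ideal.torsionOf P (P ⧸ Ideal.span (U : Set P)) (Ideal.Quotient.mk _ x)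
  have hT : ∀ c, c * x ∈ Ideal.span (U : Set P) → c ∈ T := fun c hc => by
    show c • (Submodule.Quotient.mk x : P ⧸ Ideal.span (U : Set P)) = 0
    rw [← Submodule.Quotient.mk_smul, Submodule.Quotient.mk_eq_zero, smul_eq_mul]
    exact hc
  have h1 : (1 : P) ∈ T.radical := by
    rw [← hab]
    refine add_mem (Ideal.le_radical (hT a (Ideal.mul_mem_right _ _ (Ideal.subset_span (Finset.mem_insert_self _ _)))))
      ((Ideal.span_le.2 ?_) hbG)
    intro g hg
    obtain ⟨k, hk⟩ := hFg ⟨g, hg⟩ x hx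
    refine ⟨k, hT _ (Ideal.span_mono ?_ hk)⟩
    intro f hf
    exact Finset.mem_insert_of_mem (Finset.mem_biUnion.2 ⟨⟨g, hg⟩, Finset.mem_attach _ _, hf⟩)
  obtain ⟨k, hk⟩ := h1
  rw [one_pow] at hk
  have h2 : (1 : P) • Ideal.Quotient.mk (Ideal.span (U : Set P)) x = 0 := hk
  rw [one_smul] at h2
  exact Ideal.Quotient.eq_zero_iff_mem.1 h2

end FlatFPLib
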